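import Cfsg.Agent.Lib.Involutions.RankOne.InvertedSet

/-!
The order of a group of odd order normalized by two commuting involutions:
`|X| |C_X(u,v)|^2 = |C_X(u)| |C_X(v)| |C_X(uv)|`.
-/

set_option autoImplicit false
set_option linter.unusedSectionVars false

namespace Cfsg.Agent.Jordan4

open Subgroup Cfsg.Agent.Involutions

variable {M : Type*} [Group M] [Finite M] {X : Subgroup M} {u v : M}

/-- The square root in a group of odd order. -/
noncomputable def oddRt (X : Subgroup M) (x : M) : M := x ^ ((Nat.card X + 1) / 2)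

theorem oddRt_mem {x : M} (hx : x ∈ X) : oddRt X x ∈ X := pow_mem hx _

theorem oddRt_mul_self (hodd : Odd (Nat.card X)) {x : M} (hx : x ∈ X) :
    oddRt X x * oddRt X x = x := by
  obtain ⟨k, hk⟩ := hodd
  have h1 : x ^ Nat.card X = 1 := by
    have h := congrArg Subtype.val (pow_card_eq_one' (x := (⟨x, hx⟩ : X)))
    exact h
  rw [oddRt, ← pow_add, show (Nat.card X + 1) / 2 + (Nat.card X + 1) / 2 = Nat.card X + 1 by omega,
    pow_succ, h1, one_mul]

theorem oddRt_conj (w x : M) : w * oddRt X x * w⁻¹ = oddRt X (w * x * w⁻¹) := (conj_pow).symm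

theorem oddRt_inv (x : M) : oddRt X x⁻¹ = (oddRt X x)⁻¹ := inv_pow _ _

theorem eq_of_twisted_square (hodd : Odd (Nat.card X)) {A w w' : M} (hA : A ∈ X) (hw : w ∈ X)
    (hw' : w' ∈ X) (h : w * A⁻¹ * w = w' * A⁻¹ * w') : w = w' := by
  have hP := oddRt_mul_self hodd hA
  have hPm := oddRt_mem hA
  generalize oddRt X A = P at hP hPm
  have e : ∀ s : M, P⁻¹ * s * P⁻¹ * (P⁻¹ * s * P⁻¹) = P⁻¹ * (s * A⁻¹ * s) * P⁻¹ := fun s => by
    rw [← hP]; group
  have h2 := InvertedSet.eq_of_mul_self hodd (mul_mem (mul_mem (inv_mem hPm) hw) (inv_mem hPm))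
    (mul_mem (mul_mem (inv_mem hPm) hw') (inv_mem hPm)) (by rw [e, e, h])
  exact mul_left_cancel (mul_right_cancel h2)

theorem card_klein (hodd : Odd (Nat.card X)) (hu : u * u = 1) (hv : v * v = 1)
    (huv : u * v = v * u) (hnu : ∀ x ∈ X, u * x * u⁻¹ ∈ X) (hnv : ∀ x ∈ X, v * x * v⁻¹ ∈ X) :
    Nat.card X * Nat.card ↥(X ⊓ centralizer ({u, v} : Set M)) ^ 2 =
      Nat.card ↥(X ⊓ centralizer {u}) * Nat.card ↥(X ⊓ centralizer {v}) *
        Nat.card ↥(X ⊓ centralizer {u * v}) := by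
  have hmc : ∀ {w c : M}, c ∈ centralizer ({w} : Set M) ↔ w * c * w⁻¹ = c :=
    fun {w c} => InvertedSet.mem_cent
  have hodd' : ∀ Y : Subgroup M, Y ≤ X → Odd (Nat.card Y) := fun Y hY =>
    hodd.of_dvd_nat (Subgroup.card_dvd_of_le hY)
  have hdouble : ∀ x : M, u * (v * x * v⁻¹) * u⁻¹ = v * (u * x * u⁻¹) * v⁻¹ := fun x => by
    calc u * (v * x * v⁻¹) * u⁻¹ = (u * v) * x * (u * v)⁻¹ := by group
      _ = (v * u) * x * (v * u)⁻¹ := by rw [huv]
      _ = _ := by group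
  -- centralizers of the Klein group inside the single centralizers
  have hsub : ∀ (w : M), (∀ c : M, w * c * w⁻¹ = c ∧ u * c * u⁻¹ = c ↔
      u * c * u⁻¹ = c ∧ v * c * v⁻¹ = c) →
      (X ⊓ centralizer {w}) ⊓ centralizer {u} = X ⊓ centralizer ({u, v} : Set M) := by
    intro w hw
    ext c
    simp only [mem_inf, hmc, and_assoc, hw c]
    refine and_congr_right fun _ => ?_
    rw [← hmc, ← hmc]
    simp [mem_centralizer_iff]
  have hcu := InvertedSet.card_eq hodd hu hnu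
  have hnu1 : ∀ x ∈ X ⊓ centralizer {v}, u * x * u⁻¹ ∈ X ⊓ centralizer {v} := fun x hx => by
    refine mem_inf.2 ⟨hnu x hx.1, hmc.2 ?_⟩
    rw [← hdouble, hmc.1 hx.2]
  have hnu2 : ∀ x ∈ X ⊓ centralizer {u * v}, u * x * u⁻¹ ∈ X ⊓ centralizer {u * v} := fun x hx => by
    refine mem_inf.2 ⟨hnu x hx.1, hmc.2 ?_⟩
    calc u * v * (u * x * u⁻¹) * (u * v)⁻¹ = u * (v * (u * x * u⁻¹) * v⁻¹) * u⁻¹ := by group
      _ = u * (u * v * x * (u * v)⁻¹) * u⁻¹ := by rw [← hdouble]; group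
      _ = _ := by rw [hmc.1 hx.2]
  have hcv := InvertedSet.card_eq (hodd' _ inf_le_left) hu hnu1
  have hcuv := InvertedSet.card_eq (hodd' _ inf_le_left) hu hnu2
  rw [hsub v fun c => and_comm] at hcv
  rw [hsub (u * v) fun c => by
    constructor
    · rintro ⟨h1, h2⟩
      refine ⟨h2, ?_⟩
      calc v * c * v⁻¹ = u⁻¹ * (u * v * c * (u * v)⁻¹) * u := by group
        _ = u⁻¹ * (u * c * u⁻¹) * u := by rw [h1, h2]
        _ = c := by group
    · rintro ⟨h1, h2⟩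
      refine ⟨?_, h1⟩
      calc u * v * c * (u * v)⁻¹ = u * (v * c * v⁻¹) * u⁻¹ := by group
        _ = c := by rw [h2, h1]] at hcuv
  -- the bijection
  have hsplit : Nat.card (Cfsg.invertedBy X u) =
      Nat.card (Cfsg.invertedBy (X ⊓ centralizer {v}) u) *
        Nat.card (Cfsg.invertedBy (X ⊓ centralizer {u * v}) u) := by
    rw [← Nat.card_prod]
    have hzv : ∀ {z : M}, z ∈ Cfsg.invertedBy (X ⊓ centralizer {u * v}) u → v * z * v⁻¹ = z⁻¹ := by
      rintro z ⟨hz, hzi⟩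
      have h1 := hmc.1 hz.2
      calc v * z * v⁻¹ = u⁻¹ * (u * v * z * (u * v)⁻¹) * u := by group
        _ = u⁻¹ * z * u := by rw [h1]
        _ = u * z * u⁻¹ := by rw [inv_eq_of_mul_eq_one_right hu]
        _ = z⁻¹ := hzi
    refine (Nat.card_eq_of_bijective
      (fun p : Cfsg.invertedBy (X ⊓ centralizer {v}) u ×
          Cfsg.invertedBy (X ⊓ centralizer {u * v}) u =>
        (⟨p.1.1 * p.2.1 * p.1.1, by
          obtain ⟨⟨y, hy, hyi⟩, ⟨z, hz, hzi⟩⟩ := p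
          refine ⟨mul_mem (mul_mem hy.1 hz.1) hy.1, ?_⟩
          calc u * (y * z * y) * u⁻¹ = (u * y * u⁻¹) * (u * z * u⁻¹) * (u * y * u⁻¹) := by group
            _ = (y * z * y)⁻¹ := by rw [hyi, hzi]; group⟩ : Cfsg.invertedBy X u)) ⟨?_, ?_⟩).symm
    · rintro ⟨⟨y, hy, hyi⟩, ⟨z, hz, hzi⟩⟩ ⟨⟨y', hy', hyi'⟩, ⟨z', hz', hzi'⟩⟩ he
      have he' : y * z * y = y' * z' * y' := congrArg Subtype.val he
      have hA : y * z * y ∈ X := mul_mem (mul_mem hy.1 hz.1) hy.1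
      have e1 : y * y * (y * z * y)⁻¹ * (y * y) = v * (y * z * y) * v⁻¹ := by
        calc _ = y * z⁻¹ * y := by group
          _ = (v * y * v⁻¹) * (v * z * v⁻¹) * (v * y * v⁻¹) := by
            rw [hmc.1 hy.2, hzv ⟨hz, hzi⟩]
          _ = _ := by group
      have e2 : y' * y' * (y * z * y)⁻¹ * (y' * y') = v * (y * z * y) * v⁻¹ := by
        rw [he']
        calc _ = y' * z'⁻¹ * y' := by group
          _ = (v * y' * v⁻¹) * (v * z' * v⁻¹) * (v * y' * v⁻¹) := by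
            rw [hmc.1 hy'.2, hzv ⟨hz', hzi'⟩]
          _ = _ := by group
      have hw := eq_of_twisted_square hodd hA (mul_mem hy.1 hy.1) (mul_mem hy'.1 hy'.1)
        (e1.trans e2.symm)
      obtain rfl := InvertedSet.eq_of_mul_self hodd hy.1 hy'.1 hw
      obtain rfl := mul_left_cancel (mul_right_cancel he')
      rfl
    · rintro ⟨A, hA, hAu⟩
      have hP := oddRt_mul_self hodd hA
      have hPm := oddRt_mem hA
      generalize oddRt X A = P at hP hPm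
      set A' := v * A * v⁻¹ with hA'
      have hA'm : A' ∈ X := hnv A hA
      have hB : P⁻¹ * A' * P⁻¹ ∈ X := mul_mem (mul_mem (inv_mem hPm) hA'm) (inv_mem hPm)
      set w := P * oddRt X (P⁻¹ * A' * P⁻¹) * P with hwdef
      have hwm : w ∈ X := mul_mem (mul_mem hPm (oddRt_mem hB)) hPm
      have hw : w * A⁻¹ * w = A' := by
        calc w * A⁻¹ * w = P * (oddRt X (P⁻¹ * A' * P⁻¹) * oddRt X (P⁻¹ * A' * P⁻¹)) * P := by
              rw [hwdef, ← hP]; group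
          _ = A' := by rw [oddRt_mul_self hodd hB]; group
      have hwu : (u * w * u⁻¹)⁻¹ = w := by
        refine eq_of_twisted_square hodd hA (inv_mem (hnu w hwm)) hwm ?_
        have h3 : u * (w * A⁻¹ * w) * u⁻¹ = u * A' * u⁻¹ := by rw [hw]
        rw [hA', hdouble, hAu] at h3
        calc (u * w * u⁻¹)⁻¹ * A⁻¹ * (u * w * u⁻¹)⁻¹
            = ((u * w * u⁻¹) * A * (u * w * u⁻¹))⁻¹ := by group
          _ = ((u * w * u⁻¹) * (u * A * u⁻¹)⁻¹ * (u * w * u⁻¹))⁻¹ := by rw [hAu, inv_inv]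
          _ = (u * (w * A⁻¹ * w) * u⁻¹)⁻¹ := by group
          _ = (v * A⁻¹ * v⁻¹)⁻¹ := by rw [h3]
          _ = A' := by rw [hA']; group
          _ = w * A⁻¹ * w := hw.symm
      have hwv : v * w * v⁻¹ = w := by
        refine eq_of_twisted_square hodd hA (hnv w hwm) hwm ?_
        have h3 : (v * w * v⁻¹) * A'⁻¹ * (v * w * v⁻¹) = A := by
          calc _ = v * (w * A⁻¹ * w) * v⁻¹ := by rw [hA']; group
            _ = v * (v * A * v⁻¹) * v⁻¹ := by rw [hw]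
            _ = (v * v) * A * (v * v)⁻¹ := by group
            _ = A := by rw [hv]; group
        calc (v * w * v⁻¹) * A⁻¹ * (v * w * v⁻¹)
            = (v * w * v⁻¹) * ((v * w * v⁻¹) * A'⁻¹ * (v * w * v⁻¹))⁻¹ * (v * w * v⁻¹) := by rw [h3]
          _ = A' := by group
          _ = w * A⁻¹ * w := hw.symm
      have hwu' : u * w * u⁻¹ = w⁻¹ := by rw [← inv_inv (u * w * u⁻¹), hwu]
      have hy2 := oddRt_mul_self hodd hwm
      have hyu : u * oddRt X w * u⁻¹ = (oddRt X w)⁻¹ := by rw [oddRt_conj, hwu', oddRt_inv]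
      have hyv : v * oddRt X w * v⁻¹ = oddRt X w := by rw [oddRt_conj, hwv]
      have hym := oddRt_mem hwm
      generalize oddRt X w = y at hy2 hyu hyv hym
      have hzu : u * (y⁻¹ * A * y⁻¹) * u⁻¹ = (y⁻¹ * A * y⁻¹)⁻¹ := by
        calc _ = (u * y * u⁻¹)⁻¹ * (u * A * u⁻¹) * (u * y * u⁻¹)⁻¹ := by group
          _ = _ := by rw [hyu, hAu]; group
      have hzv' : v * (y⁻¹ * A * y⁻¹) * v⁻¹ = (y⁻¹ * A * y⁻¹)⁻¹ := by
        calc _ = (v * y * v⁻¹)⁻¹ * A' * (v * y * v⁻¹)⁻¹ := by rw [hA']; group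
          _ = y⁻¹ * (w * A⁻¹ * w) * y⁻¹ := by rw [hyv, hw]
          _ = _ := by rw [← hy2]; group
      refine ⟨⟨⟨y, mem_inf.2 ⟨hym, hmc.2 hyv⟩, hyu⟩, ⟨y⁻¹ * A * y⁻¹, mem_inf.2
        ⟨mul_mem (mul_mem (inv_mem hym) hA) (inv_mem hym), hmc.2 ?_⟩, hzu⟩⟩, Subtype.ext ?_⟩
      · calc u * v * (y⁻¹ * A * y⁻¹) * (u * v)⁻¹ = u * (v * (y⁻¹ * A * y⁻¹) * v⁻¹) * u⁻¹ := by group
          _ = (u * (y⁻¹ * A * y⁻¹) * u⁻¹)⁻¹ := by rw [hzv']; group
          _ = _ := by rw [hzu, inv_inv]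
      · show y * (y⁻¹ * A * y⁻¹) * y = A
        group
  rw [hcu, hsplit, hcv, hcuv]
  ring

end Cfsg.Agent.Jordan4
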