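import Mathlib
import Cfsg.Agent.Lib.Jordan4.KleinCount

/-!
Four-transitive groups with four-point stabilisers of odd order: lifting involutions,
conjugation, and counting lemmas.
-/

set_option autoImplicit false
set_option linter.unusedSectionVars false

namespace Cfsg.Agent.Jordan4

open Equiv Subgroup

variable {α : Type*} [Fintype α] [DecidableEq α]

/-- `g` induces `σ` on the quadruple `y`. -/
def Acts (g : Perm α) (y : Fin 4 ↪ α) (σ : Perm (Fin 4)) : Prop := ∀ i, g (y i) = y (σ i)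

/-- The quadruple `y` with relabelled entries. -/
def relabel (y : Fin 4 ↪ α) (π : Perm (Fin 4)) : Fin 4 ↪ α := π.toEmbedding.trans y

@[simp] theorem relabel_apply (y : Fin 4 ↪ α) (π : Perm (Fin 4)) (i : Fin 4) :
    relabel y π i = y (π i) := rfl

/-- The pointwise stabiliser in `G` of the quadruple `y`. -/
def ptStab (G : Subgroup (Perm α)) (y : Fin 4 ↪ α) : Subgroup (Perm α) where
  carrier := {g | g ∈ G ∧ ∀ i, g (y i) = y i}
  one_mem' := ⟨G.one_mem, fun _ => rfl⟩
  mul_mem' := fun {a b} ha hb => ⟨G.mul_mem ha.1 hb.1, fun i => by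
    rw [Perm.mul_apply, hb.2, ha.2]⟩
  inv_mem' := fun {a} ha => ⟨G.inv_mem ha.1, fun i => by
    conv_lhs => rw [← ha.2 i]
    exact a.symm_apply_apply _⟩

theorem mem_ptStab {G : Subgroup (Perm α)} {y : Fin 4 ↪ α} {g : Perm α} :
    g ∈ ptStab G y ↔ g ∈ G ∧ ∀ i, g (y i) = y i := Iff.rfl

/-- `G` is 4-transitive and its four-point stabilisers have odd order. -/
structure Four (G : Subgroup (Perm α)) : Prop where
  trans : ∀ y z : Fin 4 ↪ α, ∃ g ∈ G, ∀ i, g (y i) = z i
  odd : ∀ y : Fin 4 ↪ α, Odd (Nat.card (ptStab G y))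

variable {G : Subgroup (Perm α)} {y z : Fin 4 ↪ α}

theorem acts_mul {g h : Perm α} {σ τ : Perm (Fin 4)} (hg : Acts g y σ) (hh : Acts h y τ) :
    Acts (g * h) y (σ * τ) := fun i => by rw [Perm.mul_apply, hh, hg, Perm.mul_apply]

theorem acts_pow {g : Perm α} {σ : Perm (Fin 4)} (hg : Acts g y σ) (n : ℕ) :
    Acts (g ^ n) y (σ ^ n) := by
  induction n with
  | zero => exact fun _ => rfl
  | succ n ih => rw [pow_succ, pow_succ]; exact acts_mul ih hg

theorem acts_conj {g h : Perm α} {σ : Perm (Fin 4)} (hg : Acts g y σ)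
    (hh : ∀ i, h (y i) = z i) : Acts (h * g * h⁻¹) z σ := fun i => by
  have h1 : h⁻¹ (z i) = y i := by rw [← hh i]; exact h.symm_apply_apply _
  rw [Perm.mul_apply, Perm.mul_apply, h1, hg, hh]

theorem acts_relabel {g : Perm α} {σ τ π : Perm (Fin 4)} (hg : Acts g y σ)
    (h : σ * π = π * τ) : Acts g (relabel y π) τ := fun i => by
  rw [relabel_apply, relabel_apply, hg]
  exact congrArg y (by rw [← Perm.mul_apply, h, Perm.mul_apply])

theorem map_conj_ptStab {g : Perm α} (hg : g ∈ G) (hgy : ∀ i, g (y i) = z i) :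
    (ptStab G y).map (MulAut.conj g).toMonoidHom = ptStab G z := by
  ext x
  constructor
  · rintro ⟨k, hk, rfl⟩
    simp only [MulEquiv.coe_toMonoidHom, MulAut.conj_apply]
    exact ⟨G.mul_mem (G.mul_mem hg hk.1) (G.inv_mem hg),
      acts_conj (σ := 1) hk.2 hgy⟩
  · intro hx
    refine ⟨g⁻¹ * x * g, ⟨G.mul_mem (G.mul_mem (G.inv_mem hg) hx.1) hg, fun i => ?_⟩, ?_⟩
    · rw [Perm.mul_apply, Perm.mul_apply, hgy, hx.2, ← hgy]
      exact g.symm_apply_apply _
    · simp only [MulEquiv.coe_toMonoidHom, MulAut.conj_apply]; group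

theorem map_conj_centralizer {M : Type*} [Group M] (g : M) (s : Set M) :
    (centralizer s).map (MulAut.conj g).toMonoidHom =
      centralizer ((fun w => g * w * g⁻¹) '' s) := by
  ext x
  simp only [mem_map, MulEquiv.coe_toMonoidHom, MulAut.conj_apply, mem_centralizer_iff,
    Set.forall_mem_image]
  constructor
  · rintro ⟨k, hk, rfl⟩ w hw
    calc g * w * g⁻¹ * (g * k * g⁻¹) = g * (w * k) * g⁻¹ := by group
      _ = g * (k * w) * g⁻¹ := by rw [hk w hw]
      _ = _ := by group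
  · intro hx
    refine ⟨g⁻¹ * x * g, fun w hw => ?_, by group⟩
    calc w * (g⁻¹ * x * g) = g⁻¹ * (g * w * g⁻¹ * x) * g := by group
      _ = g⁻¹ * (x * (g * w * g⁻¹)) * g := by rw [hx hw]
      _ = _ := by group

theorem card_map_conj {M : Type*} [Group M] (g : M) (K : Subgroup M) :
    Nat.card (K.map (MulAut.conj g).toMonoidHom) = Nat.card K :=
  Subgroup.card_map_of_injective (MulEquiv.injective _)

theorem card_inf_cent_congr {g : Perm α} (hg : g ∈ G) (hgy : ∀ i, g (y i) = z i)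
    (s : Set (Perm α)) :
    Nat.card ↥(ptStab G z ⊓ centralizer ((fun w => g * w * g⁻¹) '' s)) =
      Nat.card ↥(ptStab G y ⊓ centralizer s) := by
  rw [← map_conj_ptStab hg hgy, ← map_conj_centralizer, ← Subgroup.map_inf _ _ _
    (MulEquiv.injective _), card_map_conj]

theorem ptStab_relabel (π : Perm (Fin 4)) : ptStab G (relabel y π) = ptStab G y := by
  ext g
  refine and_congr_right fun _ => ⟨fun h i => ?_, fun h i => h _⟩
  simpa using h (π⁻¹ i)

theorem card_ptStab (hF : Four G) : Nat.card (ptStab G z) = Nat.card (ptStab G y) := by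
  obtain ⟨g, hg, hgy⟩ := hF.trans y z
  rw [← map_conj_ptStab hg hgy, card_map_conj]

/-- An involution of `G` fixes at most three points. -/
theorem card_fixed_le (hF : Four G) {u : Perm α} (huG : u ∈ G) (hu : u * u = 1) (hu1 : u ≠ 1) :
    (Finset.univ.filter fun p => u p = p).card ≤ 3 := by
  by_contra hc
  rw [not_le] at hc
  obtain ⟨s, hs, hs4⟩ := Finset.exists_subset_card_eq (s := Finset.univ.filter fun p => u p = p) (n := 4) hc
  let y : Fin 4 ↪ α := (s.equivFinOfCardEq hs4).symm.toEmbedding.trans (Function.Embedding.subtype _)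
  have hy : u ∈ ptStab G y := ⟨huG, fun i => by
    have h := hs ((s.equivFinOfCardEq hs4).symm i).2
    simpa [y] using h⟩
  exact hu1 (Cfsg.Agent.Involutions.InvertedSet.eq_one_of_mul_self (hF.odd y) hy hu)

/-- An involution is conjugated to another one with the same action on a quadruple by an element
of the pointwise stabiliser which commutes with everything commuting with both. -/
theorem exists_conj_fix (hF : Four G) {u u' : Perm α} {τ : Perm (Fin 4)} (huG : u ∈ G)
    (hu'G : u' ∈ G) (hu : u * u = 1) (hu' : u' * u' = 1) (hτ : τ * τ = 1)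
    (ha : Acts u y τ) (ha' : Acts u' y τ) :
    ∃ h ∈ ptStab G y, h * u * h⁻¹ = u' ∧
      ∀ w, w * u = u * w → w * u' = u' * w → w * h = h * w := by
  have hq : u' * u ∈ ptStab G y := ⟨G.mul_mem hu'G huG, fun i => by
    rw [acts_mul ha' ha i, hτ]; rfl⟩
  refine ⟨oddRt (ptStab G y) (u' * u), oddRt_mem hq, ?_, fun w h1 h2 => ?_⟩
  · have hr := oddRt_mul_self (hF.odd y) hq
    have hi : u * oddRt (ptStab G y) (u' * u) * u⁻¹ = (oddRt (ptStab G y) (u' * u))⁻¹ := by
      rw [oddRt_conj, ← oddRt_inv]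
      congr 1
      rw [mul_inv_rev, inv_eq_of_mul_eq_one_right hu', inv_eq_of_mul_eq_one_right hu]
      simp only [mul_assoc, hu, mul_one]
    generalize oddRt (ptStab G y) (u' * u) = r at hr hi
    calc r * u * r⁻¹ = r * u * (u * r * u⁻¹) := by rw [hi]
      _ = r * (u * u) * r * u⁻¹ := by group
      _ = (r * r) * u⁻¹ := by rw [hu]; group
      _ = u' := by rw [hr]; group
  · exact Commute.pow_right (Commute.mul_right h2 h1) _

/-- Involutions with the same pattern on two quadruples are conjugate, compatibly with them. -/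
theorem exists_conj (hF : Four G) {u u' : Perm α} {τ : Perm (Fin 4)} (huG : u ∈ G)
    (hu'G : u' ∈ G) (hu : u * u = 1) (hu' : u' * u' = 1) (hτ : τ * τ = 1)
    (ha : Acts u y τ) (ha' : Acts u' z τ) :
    ∃ h ∈ G, h * u * h⁻¹ = u' ∧ ∀ i, h (y i) = z i := by
  obtain ⟨g, hg, hgy⟩ := hF.trans y z
  have hw : g * u * g⁻¹ * (g * u * g⁻¹) = 1 := by
    calc _ = g * (u * u) * g⁻¹ := by group
      _ = 1 := by rw [hu]; group
  obtain ⟨v, hv, hvu, -⟩ := exists_conj_fix hF (G.mul_mem (G.mul_mem hg huG) (G.inv_mem hg)) hu'G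
    hw hu' hτ (acts_conj ha hgy) ha'
  refine ⟨v * g, G.mul_mem hv.1 hg, ?_, fun i => by rw [Perm.mul_apply, hgy, hv.2]⟩
  rw [← hvu]; group

/-- A permutation of order two of a quadruple lifts to an involution, inside the centralizer
of anything centralising a given lift. -/
theorem exists_lift_of (hF : Four G) {g : Perm α} {σ : Perm (Fin 4)} (hg : g ∈ G)
    (hσ : σ * σ = 1) (ha : Acts g y σ) :
    ∃ u ∈ G, u * u = 1 ∧ Acts u y σ ∧ ∀ w, w * g = g * w → w * u = u * w := by
  obtain ⟨r, hr⟩ := hF.odd y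
  refine ⟨g ^ Nat.card (ptStab G y), G.pow_mem hg _, ?_, ?_, fun w hw => Commute.pow_right hw _⟩
  · rw [← (Commute.refl g).mul_pow]
    have hm : g * g ∈ ptStab G y := ⟨G.mul_mem hg hg, fun i => by rw [acts_mul ha ha i, hσ]; rfl⟩
    exact congrArg Subtype.val (pow_card_eq_one' (x := (⟨g * g, hm⟩ : ptStab G y)))
  · have h := acts_pow ha (Nat.card (ptStab G y))
    rwa [show σ ^ Nat.card (ptStab G y) = σ by
      rw [hr, pow_succ, pow_mul, pow_two, hσ, one_pow, one_mul]] at h

theorem exists_lift (hF : Four G) (y : Fin 4 ↪ α) {σ : Perm (Fin 4)} (hσ : σ * σ = 1) :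
    ∃ u ∈ G, u * u = 1 ∧ Acts u y σ := by
  obtain ⟨g, hg, hgy⟩ := hF.trans y (relabel y σ)
  obtain ⟨u, h1, h2, h3, -⟩ := exists_lift_of hF hg hσ (fun i => hgy i)
  exact ⟨u, h1, h2, h3⟩

theorem exists_lift_commute (hF : Four G) {a : Perm α} {τ σ : Perm (Fin 4)} (haG : a ∈ G)
    (ha : a * a = 1) (hτ : τ * τ = 1) (hat : Acts a y τ) (hσ : σ * σ = 1) (hc : τ * σ = σ * τ) :
    ∃ u ∈ G, u * u = 1 ∧ Acts u y σ ∧ a * u = u * a := by
  obtain ⟨h, hh, hha, hhy⟩ := exists_conj hF haG haG ha ha hτ hat (acts_relabel hat hc)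
  obtain ⟨u, h1, h2, h3, h4⟩ := exists_lift_of hF hh hσ (fun i => hhy i)
  refine ⟨u, h1, h2, h3, h4 a ?_⟩
  conv_lhs => rw [← hha]
  group

/-- Orbit-stabiliser counting for tuples. -/
theorem card_eq_orbit_mul (C K : Subgroup (Perm α)) {k : ℕ} (z : Fin k → α) (S : Finset (Fin k → α))
    (hS : ∀ g ∈ C, (fun i => g (z i)) ∈ S)
    (hreach : ∀ s ∈ S, ∃ g ∈ C, (fun i => g (z i)) = s)
    (hKC : K ≤ C) (hK : ∀ g ∈ C, (g ∈ K ↔ ∀ i, g (z i) = z i)) :
    Nat.card C = S.card * Nat.card K := by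
  have horb : MulAction.orbit C z = (S : Set (Fin k → α)) := by
    ext s
    constructor
    · rintro ⟨g, rfl⟩; exact hS g g.2
    · intro hs
      obtain ⟨g, hg, hgs⟩ := hreach s hs
      exact ⟨⟨g, hg⟩, hgs⟩
  have hst : MulAction.stabilizer C z = K.subgroupOf C := by
    ext g
    rw [MulAction.mem_stabilizer_iff, Subgroup.mem_subgroupOf, hK g g.2]
    exact funext_iff
  have h := (MulAction.stabilizer C z).card_mul_index
  rw [MulAction.index_stabilizer, horb, Set.ncard_coe_finset, hst,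
    Nat.card_congr (Subgroup.subgroupOfEquivOfLe hKC).toEquiv] at h
  rw [← h, mul_comm]

end Cfsg.Agent.Jordan4
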