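import Cfsg.Agent.Lib.Jordan4.Basic

/-!
Jordan's theorem on four-transitive groups with odd four-point stabiliser: the counting that
leaves degree 11 with trivial stabiliser.
-/

set_option autoImplicit false
set_option linter.unusedSectionVars false

namespace Cfsg.Agent.Jordan4

open Equiv Subgroup Finset

variable {α : Type*} [Fintype α] [DecidableEq α] {G : Subgroup (Perm α)} {y z : Fin 4 ↪ α}

/-- A quadruple from four distinct points. -/
def mkEmb (p q r s : α) (h1 : p ≠ q) (h2 : p ≠ r) (h3 : p ≠ s) (h4 : q ≠ r) (h5 : q ≠ s)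
    (h6 : r ≠ s) : Fin 4 ↪ α :=
  ⟨![p, q, r, s], by
    intro i j h
    fin_cases i <;> fin_cases j <;> simp_all [eq_comm]⟩

theorem mkEmb_apply (p q r s : α) (h1 : p ≠ q) (h2 : p ≠ r) (h3 : p ≠ s) (h4 : q ≠ r) (h5 : q ≠ s)
    (h6 : r ≠ s) (i : Fin 4) : mkEmb p q r s h1 h2 h3 h4 h5 h6 i = ![p, q, r, s] i := rfl

/-- The fixed points of a permutation. -/
def fx (u : Perm α) : Finset α := Finset.univ.filter fun p => u p = p

/-- The moved points of a permutation. -/
def mv (u : Perm α) : Finset α := Finset.univ.filter fun p => u p ≠ p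

theorem mem_fx {u : Perm α} {p : α} : p ∈ fx u ↔ u p = p := by simp [fx]

theorem mem_mv {u : Perm α} {p : α} : p ∈ mv u ↔ u p ≠ p := by simp [mv]

theorem card_mv_add (u : Perm α) : (fx u).card + (mv u).card = Fintype.card α :=
  Finset.card_filter_add_card_filter_not _

theorem apply_apply_of_sq {u : Perm α} (hu : u * u = 1) (p : α) : u (u p) = p := by
  rw [← Perm.mul_apply, hu, Perm.one_apply]

theorem four_fixed_false (hF : Four G) {u : Perm α} (huG : u ∈ G) (hu : u * u = 1) (hu1 : u ≠ 1)
    {p q r s : α} (h1 : p ≠ q) (h2 : p ≠ r) (h3 : p ≠ s) (h4 : q ≠ r) (h5 : q ≠ s) (h6 : r ≠ s)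
    (e1 : u p = p) (e2 : u q = q) (e3 : u r = r) (e4 : u s = s) : False := by
  have hsub : ({p, q, r, s} : Finset α) ⊆ fx u := by
    intro x hx
    simp only [Finset.mem_insert, Finset.mem_singleton] at hx
    rcases hx with rfl | rfl | rfl | rfl <;> simpa [fx]
  have h := Finset.card_le_card hsub
  have hfour : ({p, q, r, s} : Finset α).card = 4 := by simp [*]
  have h3' := card_fixed_le hF huG hu hu1
  change (fx u).card ≤ 3 at h3'
  omega

theorem exists_double (hF : Four G) (hn : 8 ≤ Fintype.card α) {u : Perm α} (huG : u ∈ G)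
    (hu : u * u = 1) (hu1 : u ≠ 1) :
    ∃ y : Fin 4 ↪ α, Acts u y (swap 0 1 * swap 2 3) := by
  have hf : (fx u).card ≤ 3 := card_fixed_le hF huG hu hu1
  have hsum := card_mv_add u
  obtain ⟨p, hp⟩ := Finset.card_pos.1 (by omega : 0 < (mv u).card)
  obtain ⟨q, hq⟩ : (mv u \ {p, u p}).Nonempty := by
    rw [← Finset.card_pos]
    have := Finset.le_card_sdiff {p, u p} (mv u)
    have : ({p, u p} : Finset α).card ≤ 2 := Finset.card_le_two
    omega
  simp only [Finset.mem_sdiff, Finset.mem_insert, Finset.mem_singleton, not_or, mem_mv] at hq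
  rw [mem_mv] at hp
  have n1 : u p ≠ u q := fun h => hq.2.1 (u.injective h).symm
  have n2 : p ≠ u q := fun h => hq.2.2 (by rw [h, apply_apply_of_sq hu])
  refine ⟨mkEmb p (u p) q (u q) (Ne.symm hp) (Ne.symm hq.2.1) n2 (Ne.symm hq.2.2) n1
    (Ne.symm hq.1), fun i => ?_⟩
  fin_cases i <;> simp [mkEmb_apply, swap_apply_def, apply_apply_of_sq hu]

theorem card_fx_conj (u g : Perm α) : (fx (g * u * g⁻¹)).card = (fx u).card := by
  have h : fx (g * u * g⁻¹) = (fx u).map g.toEmbedding := by
    ext p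
    simp only [mem_fx, Finset.mem_map_equiv, Perm.mul_apply, Perm.inv_def]
    constructor
    · intro h
      conv_rhs => rw [← h]
      rw [Equiv.symm_apply_apply]
    · intro h
      rw [h, Equiv.apply_symm_apply]
  rw [h, Finset.card_map]

theorem card_fx_eq (hF : Four G) (hn : 8 ≤ Fintype.card α) {u u' : Perm α} (huG : u ∈ G)
    (hu'G : u' ∈ G) (hu : u * u = 1) (hu' : u' * u' = 1) (h1 : u ≠ 1) (h1' : u' ≠ 1) :
    (fx u').card = (fx u).card := by
  obtain ⟨y, hy⟩ := exists_double hF hn huG hu h1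
  obtain ⟨z, hz⟩ := exists_double hF hn hu'G hu' h1'
  obtain ⟨h, -, rfl, -⟩ := exists_conj hF huG hu'G hu hu' (by decide) hy hz
  exact card_fx_conj _ _

theorem map_conj_self {g : Perm α} (hg : g ∈ G) : G.map (MulAut.conj g).toMonoidHom = G := by
  ext x
  constructor
  · rintro ⟨k, hk, rfl⟩
    exact G.mul_mem (G.mul_mem hg hk) (G.inv_mem hg)
  · intro hx
    exact ⟨g⁻¹ * x * g, G.mul_mem (G.mul_mem (G.inv_mem hg) hx) hg, by
      simp only [MulEquiv.coe_toMonoidHom, MulAut.conj_apply]; group⟩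

theorem card_cent_conj {g : Perm α} (hg : g ∈ G) (u : Perm α) :
    Nat.card ↥(G ⊓ centralizer {g * u * g⁻¹}) = Nat.card ↥(G ⊓ centralizer {u}) := by
  rw [← card_map_conj g (G ⊓ centralizer {u}), Subgroup.map_inf _ _ _ (MulEquiv.injective _),
    map_conj_self hg, map_conj_centralizer, Set.image_singleton]

theorem mem_cent_singleton {u g : Perm α} : g ∈ centralizer ({u} : Set (Perm α)) ↔ u * g = g * u := by
  rw [mem_centralizer_singleton_iff]; exact eq_comm

theorem comm_apply {u g : Perm α} (h : u * g = g * u) (p : α) : u (g p) = g (u p) := by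
  rw [← Perm.mul_apply, h, Perm.mul_apply]

theorem comm_of_conj {M : Type*} [Group M] {h u : M} (hh : h * u * h⁻¹ = u) : u * h = h * u := by
  conv_lhs => rw [← hh]
  group

/-- The centralizer of an involution is transitive on its ordered pairs of transpositions. -/
theorem card_cent_double (hF : Four G) {a : Perm α} (haG : a ∈ G) (ha : a * a = 1)
    (hy : Acts a y (swap 0 1 * swap 2 3)) :
    Nat.card ↥(G ⊓ centralizer {a}) =
      (mv a).card * ((mv a).card - 2) * Nat.card ↥(ptStab G y ⊓ centralizer {a}) := by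
  have a0 : a (y 0) = y 1 := hy 0
  have a2 : a (y 2) = y 3 := hy 2
  let S : Finset (Fin 2 → α) :=
    (mv a).biUnion fun p => (mv a \ {p, a p}).image fun q => ![p, q]
  have hScard : S.card = (mv a).card * ((mv a).card - 2) := by
    rw [Finset.card_biUnion]
    · refine Finset.sum_const_nat fun p hp => ?_
      rw [Finset.card_image_of_injective _ (fun q q' h => by simpa using congrFun h 1),
        Finset.card_sdiff_of_subset]
      · rw [Finset.card_pair (Ne.symm (mem_mv.1 hp))]
      · intro x hx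
        simp only [Finset.mem_insert, Finset.mem_singleton] at hx
        rcases hx with rfl | rfl
        · exact hp
        · rw [mem_mv, apply_apply_of_sq ha]
          exact Ne.symm (mem_mv.1 hp)
    · intro p _ p' _ hpp
      show Disjoint _ _
      rw [Finset.disjoint_left]
      intro s hs hs'
      obtain ⟨q, -, rfl⟩ := Finset.mem_image.1 hs
      obtain ⟨q', -, he⟩ := Finset.mem_image.1 hs'
      exact hpp (by simpa using (congrFun he 0).symm)
  rw [← hScard]
  refine card_eq_orbit_mul (G ⊓ centralizer {a}) (ptStab G y ⊓ centralizer {a}) ![y 0, y 2] S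
    (fun g hg => ?_) (fun s hs => ?_) (inf_le_inf_right _ fun g hg => hg.1) (fun g hg => ?_)
  · have hc := comm_apply (mem_cent_singleton.1 hg.2)
    refine Finset.mem_biUnion.2 ⟨g (y 0), ?_, Finset.mem_image.2 ⟨g (y 2), ?_, ?_⟩⟩
    · rw [mem_mv, hc, a0]; simp
    · rw [Finset.mem_sdiff, mem_mv, hc, hc, a0, a2]; simp
    · ext i; fin_cases i <;> rfl
  · simp only [S, Finset.mem_biUnion, Finset.mem_image, Finset.mem_sdiff, Finset.mem_insert,
      Finset.mem_singleton, not_or, mem_mv] at hs
    obtain ⟨p, hp, q, ⟨hq, hqp, hqap⟩, rfl⟩ := hs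
    have n1 : a p ≠ a q := fun h => hqp (a.injective h).symm
    have n2 : p ≠ a q := fun h => hqap (by rw [h, apply_apply_of_sq ha])
    obtain ⟨h, hh, hha, hhy⟩ := exists_conj (z := mkEmb p (a p) q (a q) (Ne.symm hp) (Ne.symm hqp)
      n2 (Ne.symm hqap) n1 (Ne.symm hq)) hF haG haG ha ha (by decide) hy
      (fun i => by fin_cases i <;> simp [mkEmb_apply, swap_apply_def, apply_apply_of_sq ha])
    refine ⟨h, ⟨hh, mem_cent_singleton.2 (comm_of_conj hha)⟩, ?_⟩
    ext i
    fin_cases i
    · exact hhy 0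
    · exact hhy 2
  · refine ⟨fun h i => ?_, fun h => ⟨⟨hg.1, fun i => ?_⟩, hg.2⟩⟩
    · fin_cases i <;> exact h.1.2 _
    · have hc := comm_apply (mem_cent_singleton.1 hg.2)
      have h0 : g (y 0) = y 0 := h 0
      have h2 : g (y 2) = y 2 := h 1
      fin_cases i
      · exact h0
      · show g (y 1) = y 1
        rw [← a0, ← hc, h0]
      · exact h2
      · show g (y 3) = y 3
        rw [← a2, ← hc, h2]

/-- The centralizer of an involution is transitive on triples (moved, fixed, fixed). -/
theorem card_cent_single (hF : Four G) {t : Perm α} (htG : t ∈ G) (ht : t * t = 1)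
    (hy : Acts t y (swap 0 1)) :
    Nat.card ↥(G ⊓ centralizer {t}) =
      (mv t).card * ((fx t).card * (fx t).card - (fx t).card) *
        Nat.card ↥(ptStab G y ⊓ centralizer {t}) := by
  have t0 : t (y 0) = y 1 := hy 0
  have t2 : t (y 2) = y 2 := hy 2
  have t3 : t (y 3) = y 3 := hy 3
  let S : Finset (Fin 3 → α) :=
    ((mv t) ×ˢ (fx t).offDiag).image fun x => ![x.1, x.2.1, x.2.2]
  have hScard : S.card = (mv t).card * ((fx t).card * (fx t).card - (fx t).card) := by
    rw [Finset.card_image_of_injective, Finset.card_product, Finset.offDiag_card]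
    rintro ⟨p, q, r⟩ ⟨p', q', r'⟩ h
    have e0 := congrFun h 0
    have e1 := congrFun h 1
    have e2 := congrFun h 2
    simp at e0 e1 e2
    rw [e0, e1, e2]
  rw [← hScard]
  refine card_eq_orbit_mul (G ⊓ centralizer {t}) (ptStab G y ⊓ centralizer {t})
    ![y 0, y 2, y 3] S
    (fun g hg => ?_) (fun s hs => ?_) (inf_le_inf_right _ fun g hg => hg.1) (fun g hg => ?_)
  · have hc := comm_apply (mem_cent_singleton.1 hg.2)
    refine Finset.mem_image.2 ⟨(g (y 0), g (y 2), g (y 3)), ?_, ?_⟩
    · simp [Finset.mem_offDiag, mem_mv, mem_fx, hc, t0, t2, t3]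
    · ext i; fin_cases i <;> rfl
  · simp only [S, Finset.mem_image, Finset.mem_product, Finset.mem_offDiag, mem_mv, mem_fx,
      Prod.exists] at hs
    obtain ⟨p, q, r, ⟨hp, hq, hr, hqr⟩, rfl⟩ := hs
    have n1 : p ≠ q := fun h => hp (h ▸ hq)
    have n2 : p ≠ r := fun h => hp (h ▸ hr)
    have n3 : t p ≠ q := fun h => hp (t.injective (by rw [h, hq]))
    have n4 : t p ≠ r := fun h => hp (t.injective (by rw [h, hr]))
    obtain ⟨h, hh, hht, hhy⟩ := exists_conj (z := mkEmb p (t p) q r (Ne.symm hp) n1 n2 n3 n4 hqr)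
      hF htG htG ht ht (by decide) hy
      (fun i => by fin_cases i <;> simp [mkEmb_apply, swap_apply_def, apply_apply_of_sq ht, hq, hr])
    refine ⟨h, ⟨hh, mem_cent_singleton.2 (comm_of_conj hht)⟩, ?_⟩
    ext i
    fin_cases i
    · exact hhy 0
    · exact hhy 2
    · exact hhy 3
  · refine ⟨fun h i => ?_, fun h => ⟨⟨hg.1, fun i => ?_⟩, hg.2⟩⟩
    · fin_cases i <;> exact h.1.2 _
    · have hc := comm_apply (mem_cent_singleton.1 hg.2)
      have h0 : g (y 0) = y 0 := h 0
      fin_cases i
      · exact h0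
      · show g (y 1) = y 1
        rw [← t0, ← hc, h0]
      · exact h 1
      · exact h 2

end Cfsg.Agent.Jordan4
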