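import Cfsg.Agent.Lib.Jordan4.Counting

/-!
Jordan's theorem: a four-transitive group of degree at least 8 with four-point stabiliser of odd
order has degree 11 and trivial four-point stabiliser.
-/

set_option autoImplicit false
set_option linter.unusedSectionVars false

namespace Cfsg.Agent.Jordan4

open Equiv Subgroup Finset

variable {α : Type*} [Fintype α] [DecidableEq α] {G : Subgroup (Perm α)}

/-- A commuting pair of involutions acting as the regular four-group on two quadruples is
conjugated in `G` by an element mapping one quadruple to the other. -/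
theorem exists_conj_pair (hF : Four G) {t a : Perm α} (htG : t ∈ G) (haG : a ∈ G)
    (ht : t * t = 1) (ha : a * a = 1) (hta : t * a = a * t) {z z' : Fin 4 ↪ α}
    {σ τ : Perm (Fin 4)} (hσ : σ * σ = 1) (hτ : τ * τ = 1)
    (h1 : Acts t z σ) (h2 : Acts a z τ) (h1' : Acts t z' σ) (h2' : Acts a z' τ) :
    ∃ g ∈ G, t * g = g * t ∧ a * g = g * a ∧ ∀ i, g (z i) = z' i := by
  obtain ⟨g, hg, hga, hgz⟩ := exists_conj hF haG haG ha ha hτ h2 h2'
  have hu : g * t * g⁻¹ * (g * t * g⁻¹) = 1 := by
    calc _ = g * (t * t) * g⁻¹ := by group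
      _ = 1 := by rw [ht]; group
  obtain ⟨v, hv, hvt, hvc⟩ := exists_conj_fix hF (G.mul_mem (G.mul_mem hg htG) (G.inv_mem hg)) htG
    hu ht hσ (acts_conj h1 hgz) h1'
  have hav : a * v = v * a := hvc a (by
    conv_lhs => rw [← hga]
    conv_rhs => rw [← hga]
    calc g * a * g⁻¹ * (g * t * g⁻¹) = g * (a * t) * g⁻¹ := by group
      _ = g * (t * a) * g⁻¹ := by rw [hta]
      _ = _ := by group) hta.symm
  refine ⟨v * g, G.mul_mem hv.1 hg, comm_of_conj ?_, ?_, fun i => by
    rw [Perm.mul_apply, hgz, hv.2]⟩
  · calc v * g * t * (v * g)⁻¹ = v * (g * t * g⁻¹) * v⁻¹ := by group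
      _ = t := hvt
  · rw [← mul_assoc, hav, mul_assoc, comm_of_conj hga, mul_assoc]

theorem card_klein_stab (hF : Four G) {t a : Perm α} (htG : t ∈ G) (haG : a ∈ G) (ht : t * t = 1)
    (ha : a * a = 1) (hta : t * a = a * t) (y : Fin 4 ↪ α) {σ τ : Perm (Fin 4)}
    (hσ : σ * σ = 1) (hτ : τ * τ = 1) (h1 : Acts t y σ) (h2 : Acts a y τ) :
    Nat.card (ptStab G y) * Nat.card ↥(ptStab G y ⊓ centralizer ({t, a} : Set (Perm α))) ^ 2 =
      Nat.card ↥(ptStab G y ⊓ centralizer {t}) * Nat.card ↥(ptStab G y ⊓ centralizer {a}) *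
        Nat.card ↥(ptStab G y ⊓ centralizer {t * a}) := by
  have key : ∀ (u : Perm α) (ρ : Perm (Fin 4)), u ∈ G → u * u = 1 → ρ * ρ = 1 → Acts u y ρ →
      ∀ x ∈ ptStab G y, u * x * u⁻¹ ∈ ptStab G y := by
    intro u ρ hu hu2 hρ hact x hx
    refine ⟨G.mul_mem (G.mul_mem hu hx.1) (G.inv_mem hu), fun i => ?_⟩
    rw [inv_eq_of_mul_eq_one_right hu2, Perm.mul_apply, Perm.mul_apply, hact, hx.2, hact,
      ← Perm.mul_apply ρ, hρ]
    rfl
  exact card_klein (hF.odd y) ht ha hta (key t σ htG ht hσ h1) (key a τ haG ha hτ h2)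

set_option maxHeartbeats 1000000 in
theorem eleven (hF : Four G) (hn : 8 ≤ Fintype.card α) (y : Fin 4 ↪ α)
    (h3 : ∀ g ∈ G, ¬ g.IsThreeCycle) :
    Fintype.card α = 11 ∧ Nat.card (ptStab G y) = 1 := by
  -- the four-group W = {1, t, t', a}
  obtain ⟨a, haG, ha, hay⟩ := exists_lift hF y (σ := swap 0 1 * swap 2 3) (by decide)
  obtain ⟨t, htG, ht, hty, hat⟩ := exists_lift_commute hF haG ha (by decide) hay
    (σ := swap 0 1) (by decide) (by decide)
  have hta : t * a = a * t := hat.symm
  obtain ⟨t', ht'def⟩ : ∃ t', t' = t * a := ⟨_, rfl⟩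
  have ht'G : t' ∈ G := ht'def ▸ G.mul_mem htG haG
  have ht' : t' * t' = 1 := by
    calc t' * t' = t * (a * t) * a := by rw [ht'def]; group
      _ = t * t * (a * a) := by rw [← hta]; group
      _ = 1 := by rw [ht, ha, one_mul]
  have ht'y : Acts t' y (swap 2 3) := by
    have h := acts_mul hty hay
    rw [ht'def]
    rwa [show swap (0 : Fin 4) 1 * (swap 0 1 * swap 2 3) = swap 2 3 by decide] at h
  have ne1 : ∀ {u : Perm α} {σ : Perm (Fin 4)}, Acts u y σ → σ ≠ 1 → u ≠ 1 := by
    rintro u σ h hσ rfl
    exact hσ (Equiv.ext fun i => y.injective (h i).symm)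
  have ha1 : a ≠ 1 := ne1 hay (by decide)
  have ht1 : t ≠ 1 := ne1 hty (by decide)
  have ht'1 : t' ≠ 1 := ne1 ht'y (by decide)
  have t0 : t (y 0) = y 1 := hty 0
  have t2 : t (y 2) = y 2 := hty 2
  have t3 : t (y 3) = y 3 := hty 3
  have s0 : t' (y 0) = y 0 := ht'y 0
  have s1 : t' (y 1) = y 1 := ht'y 1
  have s2 : t' (y 2) = y 3 := ht'y 2
  have t'_apply : ∀ p, t' p = t (a p) := fun p => by rw [ht'def]; rfl
  have tt := apply_apply_of_sq ht
  have aa := apply_apply_of_sq ha
  have at_comm : ∀ p, a (t p) = t (a p) := fun p => by rw [← Perm.mul_apply, hat]; rfl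
  -- points fixed by one involution only
  have only0 : ∀ p, t' p = p → t p ≠ p → p = y 0 ∨ p = y 1 := by
    intro p hp hp'
    by_contra hne
    rw [not_or] at hne
    have h1 : t' (t p) = t p := by
      rw [t'_apply, at_comm, tt]
      rw [t'_apply] at hp
      exact t.injective (by rw [tt]; exact hp)
    have t1 : t (y 1) = y 0 := by rw [← t0, tt]
    refine four_fixed_false hF ht'G ht' ht'1 (y.injective.ne (by decide : (0 : Fin 4) ≠ 1))
      (Ne.symm hne.1) (fun h => hne.2 (t.injective (by rw [← h, t1]))) (Ne.symm hne.2)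
      (fun h => hne.1 (t.injective (by rw [← h, t0]))) (Ne.symm hp') s0 s1 hp h1
  have only2 : ∀ p, t p = p → t' p ≠ p → p = y 2 ∨ p = y 3 := by
    intro p hp hp'
    by_contra hne
    rw [not_or] at hne
    have h1 : t (t' p) = t' p := by
      rw [t'_apply, tt, ← at_comm, hp]
    have s3 : t' (y 3) = y 2 := ht'y 3
    refine four_fixed_false hF htG ht ht1 (y.injective.ne (by decide : (2 : Fin 4) ≠ 3))
      (Ne.symm hne.1) (fun h => hne.2 (t'.injective (by rw [← h, s3]))) (Ne.symm hne.2)
      (fun h => hne.1 (t'.injective (by rw [← h, s2]))) (Ne.symm hp') t2 t3 hp h1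
  -- fixed point counts
  set f := (fx t).card with hfdef
  have hf3 : f ≤ 3 := card_fixed_le hF htG ht ht1
  have hf2 : 2 ≤ f := by
    refine le_trans ?_ (Finset.card_le_card (s := {y 2, y 3}) ?_)
    · rw [Finset.card_pair (y.injective.ne (by decide))]
    · intro x hx
      simp only [Finset.mem_insert, Finset.mem_singleton] at hx
      rcases hx with rfl | rfl <;> rw [mem_fx] <;> assumption
  have hfa : (fx a).card = f := card_fx_eq hF hn htG haG ht ha ht1 ha1
  have hsplit : fx t = {y 2, y 3} ∪ (fx t ∩ fx t') := by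
    ext p
    simp only [Finset.mem_union, Finset.mem_insert, Finset.mem_singleton, Finset.mem_inter, mem_fx]
    refine ⟨fun h => (em (t' p = p)).symm.imp (only2 p h) fun h' => ⟨h, h'⟩, ?_⟩
    rintro ((rfl | rfl) | h)
    exacts [t2, t3, h.1]
  have hc0 : f = 2 + (fx t ∩ fx t').card := by
    conv_lhs => rw [hfdef, hsplit]
    rw [Finset.card_union_of_disjoint, Finset.card_pair (y.injective.ne (by decide))]
    rw [Finset.disjoint_left]
    intro x hx hx'
    simp only [Finset.mem_inter, mem_fx] at hx'
    simp only [Finset.mem_insert, Finset.mem_singleton] at hx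
    rcases hx with rfl | rfl
    · exact y.injective.ne (by decide : (3 : Fin 4) ≠ 2) (s2.symm.trans hx'.2)
    · have s3 : t' (y 3) = y 2 := ht'y 3
      exact y.injective.ne (by decide : (2 : Fin 4) ≠ 3) (s3.symm.trans hx'.2)
  -- the union of the fixed point sets
  set U := fx t ∪ (fx t' ∪ fx a) with hUdef
  have hU : U.card = f + 4 := by
    have e1 : U = fx t ∪ ({y 0, y 1} ∪ (fx a \ (fx t ∩ fx t'))) := by
      ext p
      simp only [hUdef, Finset.mem_union, Finset.mem_insert, Finset.mem_singleton,
        Finset.mem_sdiff, Finset.mem_inter, mem_fx]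
      constructor
      · rintro (h | h | h)
        · exact .inl h
        · by_cases hp : t p = p
          · exact .inl hp
          · exact .inr (.inl (only0 p h hp))
        · by_cases hp : t p = p
          · exact .inl hp
          · exact .inr (.inr ⟨h, fun h' => hp h'.1⟩)
      · rintro (h | (rfl | rfl) | h)
        exacts [.inl h, .inr (.inl s0), .inr (.inl s1), .inr (.inr h.1)]
    have hsub : fx t ∩ fx t' ⊆ fx a := fun p hp => by
      simp only [Finset.mem_inter, mem_fx, t'_apply] at hp ⊢
      exact t.injective (hp.2.trans hp.1.symm)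
    rw [e1, Finset.card_union_of_disjoint, Finset.card_union_of_disjoint,
      Finset.card_pair (y.injective.ne (by decide)), Finset.card_sdiff_of_subset hsub]
    · omega
    · rw [Finset.disjoint_left]
      intro x hx hx'
      simp only [Finset.mem_sdiff, mem_fx] at hx'
      simp only [Finset.mem_insert, Finset.mem_singleton] at hx
      have a0 : a (y 0) = y 1 := hay 0
      have a1 : a (y 1) = y 0 := hay 1
      rcases hx with rfl | rfl
      · exact y.injective.ne (by decide : (0 : Fin 4) ≠ 1) (hx'.1.symm.trans a0)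
      · exact y.injective.ne (by decide : (1 : Fin 4) ≠ 0) (hx'.1.symm.trans a1)
    · rw [Finset.disjoint_left]
      intro x hx hx'
      simp only [mem_fx] at hx
      simp only [Finset.mem_union, Finset.mem_insert, Finset.mem_singleton, Finset.mem_sdiff,
        Finset.mem_inter, mem_fx] at hx'
      rcases hx' with (rfl | rfl) | ⟨h1, h2⟩
      · exact y.injective.ne (by decide : (0 : Fin 4) ≠ 1) (hx.symm.trans t0)
      · exact y.injective.ne (by decide : (1 : Fin 4) ≠ 0) (hx.symm.trans (by rw [← t0, tt]))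
      · exact h2 ⟨hx, by rw [t'_apply, h1, hx]⟩
  set Ω := Finset.univ \ U with hΩdef
  have hΩ : Ω.card + (f + 4) = Fintype.card α := by
    rw [hΩdef, ← hU, Finset.card_sdiff_of_subset (Finset.subset_univ _), Finset.card_univ]
    have := Finset.card_le_univ U
    omega
  have memΩ : ∀ p, p ∈ Ω ↔ t p ≠ p ∧ t (a p) ≠ p ∧ a p ≠ p := fun p => by
    simp [hΩdef, hUdef, mem_fx, t'_apply, not_or]
  obtain ⟨p₀, hp₀⟩ := Finset.card_pos.1 (show 0 < Ω.card by omega)
  have mkz : ∀ p ∈ Ω, ∃ z : Fin 4 ↪ α, z 0 = p ∧ Acts t z (swap 0 1 * swap 2 3) ∧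
      Acts a z (swap 0 2 * swap 1 3) := by
    intro p hp
    obtain ⟨n1, n3, n2⟩ := (memΩ p).1 hp
    have n4 : t p ≠ a p := fun h => n3 (by rw [← h, tt])
    have n5 : t p ≠ t (a p) := fun h => n2 (t.injective h).symm
    have n6 : a p ≠ t (a p) := fun h => n1 (a.injective (by rw [at_comm]; exact h.symm))
    refine ⟨mkEmb p (t p) (a p) (t (a p)) (Ne.symm n1) (Ne.symm n2) (Ne.symm n3) n4 n5 n6, rfl,
      fun i => ?_, fun i => ?_⟩
    · fin_cases i <;> simp [mkEmb_apply, swap_apply_def, tt]
    · fin_cases i <;> simp [mkEmb_apply, swap_apply_def, at_comm, aa]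
  obtain ⟨z, hz0, htz, haz⟩ := mkz p₀ hp₀
  -- the centralizer orders
  set A := Nat.card ↥(ptStab G y ⊓ centralizer {a}) with hAdef
  set T := Nat.card ↥(ptStab G y ⊓ centralizer {t}) with hTdef
  set c := Nat.card ↥(ptStab G y ⊓ centralizer ({t, a} : Set (Perm α))) with hcdef
  set c' := Nat.card ↥(ptStab G z ⊓ centralizer ({t, a} : Set (Perm α))) with hc'def
  have hT' : Nat.card ↥(ptStab G y ⊓ centralizer {t'}) = T := by
    obtain ⟨h, hh, hht, hhy⟩ := exists_conj (z := relabel y (swap 0 2 * swap 1 3)) hF htG ht'G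
      ht ht' (by decide) hty (acts_relabel ht'y (by decide))
    have e := card_inf_cent_congr hh hhy {t}
    rwa [Set.image_singleton, hht, ptStab_relabel] at e
  have hAz : ∀ (u : Perm α) (σ π : Perm (Fin 4)), u ∈ G → u * u = 1 → Acts u z σ →
      σ * π = π * (swap 0 1 * swap 2 3) → Nat.card ↥(ptStab G z ⊓ centralizer {u}) = A := by
    intro u σ π hu hu2 hact he
    obtain ⟨h, hh, hht, hhy⟩ := exists_conj hF haG hu ha hu2 (by decide) hay (acts_relabel hact he)
    have e := card_inf_cent_congr hh hhy {a}
    rwa [Set.image_singleton, hht, ptStab_relabel] at e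
  have e1 := card_klein_stab hF htG haG ht ha hta y (by decide) (by decide) hty hay
  rw [← ht'def, hT'] at e1
  have e2 := card_klein_stab hF htG haG ht ha hta z (by decide) (by decide) htz haz
  rw [← ht'def, hAz t _ 1 htG ht htz (by decide), hAz a _ (swap 1 2) haG ha haz (by decide),
    hAz t' _ (swap 1 3) ht'G ht' (ht'def ▸ acts_mul htz haz) (by decide), card_ptStab (y := y) hF] at e2
  change Nat.card (ptStab G y) * c ^ 2 = T * A * T at e1
  change Nat.card (ptStab G y) * c' ^ 2 = A * A * A at e2
  have hA0 : 0 < A := Nat.card_pos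
  have hc0' : 0 < c' := Nat.card_pos
  have hTc : T * c' = A * c := by
    have h : (T * c') ^ 2 * A = (A * c) ^ 2 * A := by
      calc (T * c') ^ 2 * A = (T * A * T) * c' ^ 2 := by ring
        _ = Nat.card (ptStab G y) * c' ^ 2 * c ^ 2 := by rw [← e1]; ring
        _ = A * A * A * c ^ 2 := by rw [e2]
        _ = (A * c) ^ 2 * A := by ring
    exact Nat.pow_left_injective two_ne_zero (Nat.eq_of_mul_eq_mul_right hA0 h)
  -- the centralizer of W, counted in two ways
  set CW := G ⊓ centralizer ({t, a} : Set (Perm α))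
  have memCW : ∀ g, g ∈ CW ↔ g ∈ G ∧ t * g = g * t ∧ a * g = g * a := fun g => by
    simp [CW, Subgroup.mem_inf, mem_centralizer_iff]
  have hW1 : Nat.card CW = 4 * c := by
    let S : Finset (Fin 2 → α) :=
      (({y 0, y 1} : Finset α) ×ˢ ({y 2, y 3} : Finset α)).image fun x => ![x.1, x.2]
    have hS : S.card = 4 := by
      rw [Finset.card_image_of_injective, Finset.card_product,
        Finset.card_pair (y.injective.ne (by decide)), Finset.card_pair (y.injective.ne (by decide))]
      rintro ⟨p, q⟩ ⟨p', q'⟩ h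
      have e0 := congrFun h 0
      have e1 := congrFun h 1
      simp at e0 e1
      rw [e0, e1]
    rw [← hS]
    refine card_eq_orbit_mul CW _ ![y 0, y 2] S (fun g hg => ?_) (fun s hs => ?_)
      (inf_le_inf_right _ fun g hg => hg.1) (fun g hg => ?_)
    · obtain ⟨-, hgt, hga⟩ := (memCW g).1 hg
      have ct := comm_apply hgt
      have ca := comm_apply hga
      have m0 : g (y 0) = y 0 ∨ g (y 0) = y 1 := by
        refine only0 _ ?_ ?_
        · rw [t'_apply, ca, ct, ← t'_apply, s0]
        · rw [ct, t0]; simp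
      have m2 : g (y 2) = y 2 ∨ g (y 2) = y 3 := by
        refine only2 _ ?_ ?_
        · rw [ct, t2]
        · rw [t'_apply, ca, ct, ← t'_apply, s2]; simp
      refine Finset.mem_image.2 ⟨(g (y 0), g (y 2)), ?_, ?_⟩
      · simp [Finset.mem_product, m0, m2]
      · ext i; fin_cases i <;> rfl
    · simp only [S, Finset.mem_image, Finset.mem_product, Finset.mem_insert, Finset.mem_singleton,
        Prod.exists] at hs
      obtain ⟨p, q, ⟨hp, hq⟩, rfl⟩ := hs
      have a0 : a (y 0) = y 1 := hay 0
      have a2 : a (y 2) = y 3 := hay 2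
      rcases hp with rfl | rfl <;> rcases hq with rfl | rfl
      · exact ⟨1, one_mem _, by ext i; fin_cases i <;> rfl⟩
      · refine ⟨t', (memCW _).2 ⟨ht'G, ?_, ?_⟩, by ext i; fin_cases i <;> simp [s0, s2]⟩
        · rw [ht'def]; conv_rhs => rw [mul_assoc, hat]
        · rw [ht'def, ← mul_assoc, hat, mul_assoc]
      · exact ⟨t, (memCW _).2 ⟨htG, rfl, hat⟩, by ext i; fin_cases i <;> simp [t0, t2]⟩
      · exact ⟨a, (memCW _).2 ⟨haG, hta, rfl⟩, by ext i; fin_cases i <;> simp [a0, a2]⟩
    · obtain ⟨hgG, hgt, hga⟩ := (memCW g).1 hg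
      refine ⟨fun h i => ?_, fun h => ⟨⟨hgG, fun i => ?_⟩, hg.2⟩⟩
      · fin_cases i <;> exact h.1.2 _
      · have ct := comm_apply hgt
        have ca := comm_apply hga
        have h0 : g (y 0) = y 0 := h 0
        have h2 : g (y 2) = y 2 := h 1
        fin_cases i
        · exact h0
        · show g (y 1) = y 1
          rw [← t0, ← ct, h0]
        · exact h2
        · show g (y 3) = y 3
          have a2 : a (y 2) = y 3 := hay 2
          rw [← a2, ← ca, h2]
  have hW2 : Nat.card CW = Ω.card * c' := by
    let S : Finset (Fin 1 → α) := Ω.image fun q => ![q]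
    have hS : S.card = Ω.card := Finset.card_image_of_injective _
      fun q q' h => by simpa using congrFun h 0
    rw [← hS]
    refine card_eq_orbit_mul CW _ ![p₀] S (fun g hg => ?_) (fun s hs => ?_)
      (inf_le_inf_right _ fun g hg => hg.1) (fun g hg => ?_)
    · obtain ⟨-, hgt, hga⟩ := (memCW g).1 hg
      have ct := comm_apply hgt
      have ca := comm_apply hga
      obtain ⟨n1, n3, n2⟩ := (memΩ p₀).1 hp₀
      refine Finset.mem_image.2 ⟨g p₀, (memΩ _).2 ?_, by ext i; fin_cases i; rfl⟩
      simp [ct, ca, n1, n2, n3]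
    · simp only [S, Finset.mem_image] at hs
      obtain ⟨q, hq, rfl⟩ := hs
      obtain ⟨z', hz'0, htz', haz'⟩ := mkz q hq
      obtain ⟨g, hg, hgt, hga, hgz⟩ := exists_conj_pair hF htG haG ht ha hta (by decide) (by decide)
        htz haz htz' haz'
      refine ⟨g, (memCW g).2 ⟨hg, hgt, hga⟩, ?_⟩
      ext i
      fin_cases i
      show g p₀ = q
      rw [← hz0, hgz, hz'0]
    · obtain ⟨hgG, hgt, hga⟩ := (memCW g).1 hg
      refine ⟨fun h i => ?_, fun h => ⟨⟨hgG, fun i => ?_⟩, hg.2⟩⟩
      · fin_cases i
        show g p₀ = p₀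
        rw [← hz0]
        exact h.1.2 0
      · have ct := comm_apply hgt
        have ca := comm_apply hga
        have h0 : g (z 0) = z 0 := by rw [hz0]; exact h 0
        have z1 : t (z 0) = z 1 := htz 0
        have z2 : a (z 0) = z 2 := haz 0
        have z3 : t (z 2) = z 3 := htz 2
        fin_cases i
        · exact h0
        · show g (z 1) = z 1
          rw [← z1, ← ct, h0]
        · show g (z 2) = z 2
          rw [← z2, ← ca, h0]
        · show g (z 3) = z 3
          rw [← z3, ← ct, ← z2, ← ca, h0]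
  have hma : (mv a).card = (mv t).card := by
    have h1 := card_mv_add a
    have h2 := card_mv_add t
    omega
  have hC : (mv t).card * ((mv t).card - 2) * A = (mv t).card * (f * f - f) * T := by
    obtain ⟨w, hw⟩ := exists_double hF hn htG ht ht1
    obtain ⟨h, hh, hht, -⟩ := exists_conj hF htG haG ht ha (by decide) hw hay
    have e := card_cent_conj hh t
    rw [hht, card_cent_double hF haG ha hay, card_cent_single hF htG ht hty, hma] at e
    exact e
  have hM := card_mv_add t
  have h4T : 4 * T = A * Ω.card := by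
    refine Nat.eq_of_mul_eq_mul_right hc0' ?_
    calc 4 * T * c' = A * (4 * c) := by rw [mul_assoc, hTc]; ring
      _ = A * (Ω.card * c') := by rw [← hW1, hW2]
      _ = _ := by ring
  have hM0 : 0 < (mv t).card := by omega
  have hkey : 4 * ((mv t).card - 2) = (f * f - f) * Ω.card := by
    refine Nat.eq_of_mul_eq_mul_right hA0 ?_
    have h := Nat.eq_of_mul_eq_mul_left hM0 (by simpa only [mul_assoc] using hC)
    calc 4 * ((mv t).card - 2) * A = 4 * ((f * f - f) * T) := by rw [mul_assoc, h]
      _ = (f * f - f) * (4 * T) := by ring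
      _ = _ := by rw [h4T]; ring
  have hf : f = 3 := by
    rcases (show f = 2 ∨ f = 3 by omega) with h | h
    · rw [h] at hkey hΩ
      norm_num at hkey
      omega
    · exact h
  rw [hf] at hkey hΩ
  norm_num at hkey
  have hn11 : Fintype.card α = 11 := by omega
  refine ⟨hn11, ?_⟩
  -- the stabiliser of the quadruple centralises nothing
  have hA1 : A = 1 := by
    rw [hAdef, Subgroup.card_eq_one, Subgroup.eq_bot_iff_forall]
    intro h hh
    by_contra hne
    have hodd : Odd (orderOf h) := (hF.odd y).of_dvd_nat (Subgroup.orderOf_dvd_natCard _ hh.1)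
    have ch := comm_apply (mem_cent_singleton.1 hh.2)
    have hfix : ∀ p, a p ≠ p → h p = p := by
      intro p hp
      by_cases hy' : ∃ i, y i = p
      · obtain ⟨i, rfl⟩ := hy'; exact hh.1.2 i
      push Not at hy'
      let Y : Finset α := Finset.univ.map y
      set R := mv a \ Y with hRdef
      have hR : R.card = 4 := by
        rw [hRdef, Finset.card_sdiff_of_subset, Finset.card_map, Finset.card_univ, Fintype.card_fin]
        · omega
        · intro x hx
          simp only [Y, Finset.mem_map, Finset.mem_univ, true_and] at hx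
          obtain ⟨i, rfl⟩ := hx
          rw [mem_mv, hay i]
          refine y.injective.ne ?_
          revert i; decide
      have memR : ∀ x, x ∈ R ↔ a x ≠ x ∧ ∀ i, y i ≠ x := fun x => by
        simp [hRdef, Y, mem_mv]
      have hR_a : ∀ x ∈ R, a x ∈ R := fun x hx => by
        rw [memR] at hx ⊢
        refine ⟨fun h' => hx.1 (a.injective h'), fun i hi => hx.2 ((swap 0 1 * swap 2 3 : Perm (Fin 4)) i) ?_⟩
        rw [← hay i, hi, aa]
      have hR_h : ∀ x ∈ R, h x ∈ R := fun x hx => by
        rw [memR] at hx ⊢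
        refine ⟨fun h' => hx.1 (h.injective (by rw [← ch, h'])), fun i hi => hx.2 i ?_⟩
        exact h.injective (by rw [hh.1.2, hi])
      have hpR : p ∈ R := (memR p).2 ⟨hp, hy'⟩
      obtain ⟨q, hq⟩ : (R \ {p, a p}).Nonempty := by
        rw [← Finset.card_pos]
        have := Finset.le_card_sdiff {p, a p} R
        have : ({p, a p} : Finset α).card ≤ 2 := Finset.card_le_two
        omega
      simp only [Finset.mem_sdiff, Finset.mem_insert, Finset.mem_singleton, not_or] at hq
      have hqa : a q ≠ q := ((memR q).1 hq.1).1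
      have n1 : p ≠ a q := fun h' => hq.2.2 (by rw [h', aa])
      have n2 : a p ≠ a q := fun h' => hq.2.1 (a.injective h').symm
      have hRe : ({p, a p, q, a q} : Finset α) = R := by
        refine Finset.eq_of_subset_of_card_le ?_ ?_
        · intro x hx
          simp only [Finset.mem_insert, Finset.mem_singleton] at hx
          rcases hx with rfl | rfl | rfl | rfl
          exacts [hpR, hR_a p hpR, hq.1, hR_a q hq.1]
        · rw [hR]
          simp [Ne.symm hp, Ne.symm hq.2.1, n1, Ne.symm hq.2.2, n2, Ne.symm hqa]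
      have cases4 : ∀ x ∈ R, x = p ∨ x = a p ∨ x = q ∨ x = a q := fun x hx => by
        rw [← hRe] at hx; simpa using hx
      have h4 : h (h (h (h p))) = p := by
        rcases cases4 _ (hR_h p hpR) with e | e | e | e
        · rw [e, e, e, e]
        · rw [e, ← ch, e, aa, e, ← ch, e, aa]
        · have hq1 : h q = p ∨ h q = a p := by
            rcases cases4 _ (hR_h q hq.1) with e' | e' | e' | e'
            · exact .inl e'
            · exact .inr e'
            · exact absurd (h.injective (e'.trans e.symm)) hq.2.1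
            · exact absurd (h.injective ((by rw [← ch, e, e']) : h q = h (a p))) hq.2.2
          rcases hq1 with e' | e'
          · rw [e, e', e, e']
          · rw [e, e', ← ch, e, ← ch, e', aa]
        · have hq1 : h q = p ∨ h q = a p := by
            rcases cases4 _ (hR_h q hq.1) with e' | e' | e' | e'
            · exact .inl e'
            · exact .inr e'
            · exact absurd (h.injective ((by rw [← ch, e, e', aa]) : h q = h (a p))) hq.2.2
            · exact absurd (h.injective (e'.trans e.symm)) hq.2.1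
          rcases hq1 with e' | e'
          · rw [e, ← ch, e', ← ch, e, aa, e']
          · rw [e, ← ch, e', aa, e, ← ch, e', aa]
      obtain ⟨j, hj⟩ := exists_pow_eq_self_of_coprime (x := h) (n := 4)
        ((Nat.Coprime.pow_left 2 hodd.coprime_two_left))
      have h4' : (h ^ 4) p = p := h4
      rw [← hj, Perm.coe_pow]
      exact (Function.IsFixedPt.iterate h4' j)
    have hsupp : h.support ⊆ fx a := fun p hp => by
      rw [mem_fx]
      by_contra hap
      exact (Perm.mem_support.1 hp) (hfix p hap)
    have hle := Finset.card_le_card hsupp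
    have hne0 : h.support.card ≠ 0 := by simpa using hne
    have hne1 := Perm.card_support_ne_one h
    have h2 : h.support.card ≠ 2 := fun h2 => by
      have hs := Perm.card_support_eq_two.1 h2
      rw [hs.orderOf] at hodd
      exact absurd hodd (by decide)
    exact h3 h hh.1.1 (card_support_eq_three_iff.1 (by omega))
  have hT1 : 4 * T = Ω.card := by rw [h4T, hA1, one_mul]
  have hT2 : T = 1 := by omega
  rw [hT2, hA1] at hTc
  simp only [one_mul] at hTc
  rw [hA1, hTc] at e2
  have hc1 : c = 1 := by
    have : c ∣ 1 := by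
      have := Subgroup.card_dvd_of_le (show ptStab G y ⊓ centralizer ({t, a} : Set (Perm α))
        ≤ ptStab G y ⊓ centralizer {a} from inf_le_inf_left _ (centralizer_le (by simp)))
      rw [← hAdef, hA1] at this
      exact this
    exact Nat.dvd_one.1 this
  rw [hc1] at e2
  simpa using e2

end Cfsg.Agent.Jordan4
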